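import Cfsg.Agent.UGT.U2.RL.Qt
import Cfsg.Agent.UGT.U2.FOne.All
import Cfsg.Agent.UGT.U2.Three
import Cfsg.Agent.UGT.U2.AutBar

/-!
# (f1) for quasisimple groups with centre a 2-group

`M` quasisimple, `Z(M)` a 2-group, `M / Z(M)` of Lie type in odd characteristic, not `PSL₂(q)`, `²G₂(q)`; `τ` an
involutory automorphism, `D` an odd group of automorphisms commuting with `τ`, normalised by `C_M(τ)`: then
`M / Z(M)` is `LieBig` and there is a local configuration `Loc τ δ z S J`, `δ ∈ D`.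
-/

set_option autoImplicit false

open Subgroup Cfsg Cfsg.Agent.GH.Cov.Lft
open Cfsg.Agent.OddHalf.NI (Even8 LieBig)
open Cfsg.Agent.UGT.U2.AutBar (bar bar_mk bar_conj bar_injective)
open Cfsg.Agent.UGT.Iface
open scoped commutatorElement

namespace Cfsg.Agent.UGT.U2.RL

universe u

/-- `J` is a component of `C(z)`, `z ∈ S ≤ J`, `S` with quaternion Sylow 2-subgroups, invariant under `τ`, `J` is
invariant under `δ`, not centralised by it. -/
structure Loc {M : Type*} [Group M] (τ δ : MulAut M) (z : M) (S J : Subgroup M) : Prop where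
  qt : Qt S z
  le : S ≤ J
  quasi : IsQuasisimple ↥J
  cent : J ≤ centralizer ({z} : Set M)
  sub : (J.subgroupOf (centralizer ({z} : Set M))).IsSubnormal
  τz : τ z = z
  τS : ∀ s ∈ S, τ s ∈ S
  δz : δ z = z
  δJ : ∀ j ∈ J, δ j ∈ J
  ne : ∃ j ∈ J, δ j ≠ j

section cext

variable {M : Type*} [Group M]

theorem cext (h2 : IsPGroup 2 ↥(center M)) : CExt (QuotientGroup.mk' (center M)) := by
  refine ⟨QuotientGroup.mk'_surjective _, ?_, ?_⟩
  · intro c hc x
    have h1 : c ∈ center M := (QuotientGroup.eq_one_iff c).mp hc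
    exact (mem_center_iff.mp h1 x).symm
  · intro c hc
    have h1 : c ∈ center M := (QuotientGroup.eq_one_iff c).mp hc
    obtain ⟨n, hn⟩ := h2 ⟨c, h1⟩
    exact ⟨n, congrArg Subtype.val hn⟩

theorem mem_of_map {K : Type*} [Group K] {J : Subgroup K} {x : MulAut K} (h : J.map x.toMonoidHom = J) {j : K}
    (hj : j ∈ J) : x j ∈ J := by
  rw [← h]
  exact mem_map_of_mem _ hj

/-- The liftable elements lift to fixed points. -/
theorem exists_fixed [Finite M] (h2 : IsPGroup 2 ↥(center M)) (τ : MulAut M) {v : M ⧸ center M}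
    (hv : FOne.Liftable (bar τ) v) : ∃ k : M, (QuotientGroup.mk k : M ⧸ center M) = v ∧ τ k = k := by
  have hf := cext h2
  obtain ⟨hx, h | ⟨ho, J, ⟨q, -, hJ⟩, hvJ, hJx⟩⟩ := hv
  · obtain ⟨k, hk, hko⟩ := hf.exists_lift h
    refine ⟨k, hk, hf.unique ?_ (by rw [hko]; exact h) ?_⟩
    · rw [show orderOf (τ k) = orderOf k from orderOf_injective τ.toMonoidHom τ.injective k, hko]
      exact h
    · change (QuotientGroup.mk (τ k) : M ⧸ center M) = QuotientGroup.mk k
      rw [← bar_mk]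
      change bar τ (QuotientGroup.mk' (center M) k) = _
      rw [hk, hx]
      exact hk.symm
  · have hQ := Qt.of_isSL2 hJ hvJ ho
    obtain ⟨k, hk, hQ'⟩ := hQ.lift hf
    refine ⟨k, hk, hQ.injOn hf ?_ hQ'.mem ?_⟩
    · exact map_Lft (π := QuotientGroup.mk' (center M)) (π' := QuotientGroup.mk' (center M)) τ (bar τ)
        (fun x => rfl) (fun b hb => mem_of_map hJx hb) k hQ'.mem
    · change (QuotientGroup.mk (τ k) : M ⧸ center M) = QuotientGroup.mk' (center M) k
      rw [← bar_mk]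
      change bar τ (QuotientGroup.mk' (center M) k) = _
      rw [hk, hx]

end cext

/-- **(f1) for quasisimple groups.** -/
theorem exists_loc {M : Type u} [Group M] [Finite M] (hF : FOne.All.FAll.{u}) (hq : IsQuasisimple M)
    (h2 : IsPGroup 2 ↥(center M))
    (hLie : ∃ p : ℕ, p.Prime ∧ p ≠ 2 ∧ IsLieTypeChar p (M ⧸ center M)) (hL2 : ¬ IsL2 (M ⧸ center M))
    (hRee : ¬ Lie.IsoRee (M ⧸ center M)) {τ : MulAut M} {D : Subgroup (MulAut M)} (e1 : τ * τ = 1) (e2 : τ ≠ 1)
    (e3 : Odd (Nat.card D)) (e4 : D ≠ ⊥) (e5 : ∀ δ ∈ D, δ * τ = τ * δ)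
    (e6 : ∀ k : M, τ k = k → ∀ δ ∈ D, MulAut.conj k * δ * (MulAut.conj k)⁻¹ ∈ D) :
    LieBig (M ⧸ center M) ∧ ∃ δ ∈ D, ∃ z S J, Loc τ δ z S J := by
  have hs := hq.2
  have hf := cext h2
  have hinj := bar_injective hq.1
  obtain ⟨q, hF1, hbig⟩ := hF (M ⧸ center M) hq.2 hLie hL2 hRee
  have hxx : bar τ * bar τ = 1 := by rw [← map_mul, e1, map_one]
  have hx1 : bar τ ≠ 1 := fun h => e2 (hinj (by rw [h, map_one]))
  have hx : orderOf (bar τ) = 2 := orderOf_eq_prime (by rw [pow_two, hxx]) hx1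
  have hodd : Odd (Nat.card (D.map bar)) := by
    rw [Subgroup.card_map_of_injective hinj]; exact e3
  have hcomm : ∀ d ∈ D.map bar, d * bar τ = bar τ * d := by
    rintro _ ⟨δ, hδ, rfl⟩
    rw [← map_mul, e5 δ hδ, map_mul]
  have hnorm : ∀ v : M ⧸ center M, FOne.Liftable (bar τ) v → ∀ d ∈ D.map bar,
      MulAut.conj v * d * (MulAut.conj v)⁻¹ ∈ D.map bar := by
    rintro v hv _ ⟨δ, hδ, rfl⟩
    obtain ⟨k, rfl, hk⟩ := exists_fixed h2 τ hv
    rw [← bar_conj, ← map_inv, ← map_mul, ← map_mul]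
    exact mem_map_of_mem _ (e6 k hk δ hδ)
  have hne : D.map bar ≠ ⊥ := by
    intro h
    exact e4 ((Subgroup.map_eq_bot_iff_of_injective D hinj).mp h)
  have hZ : center (M ⧸ center M) = ⊥ := by
    have h3 : Group.IsPerfect M := hq.1
    exact Group.IsPerfect.center_quotient_center_eq_bot M
  obtain ⟨z, J, hz, hzJ, hJz, hsub, hgood, hJx, d, hd, hJd, j, hj, hdj⟩ :=
    hF1 (bar τ) (D.map bar) hx hodd hcomm hnorm hne
  have key : 3 < q ∧ IsQuasisimple ↥J ∧ ∃ d ∈ D.map bar, J.map d.toMonoidHom = J ∧ (∃ j ∈ J, d j ≠ j) ∧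
      ∃ S ≤ J, z ∈ S ∧ FOne.IsSL2 q S ∧ S.map (bar τ).toMonoidHom = S ∧ S.map d.toMonoidHom = S := by
    rcases hgood with h | ⟨h3, h4, -, d', hd', h5, h6, S, h7, h8, h9, h10, h11⟩
    · have h3 : 3 < q := by
        have h0 := h
        obtain ⟨F, i1, i2, h4, h5, -⟩ := h0
        have h6 : 1 < Nat.card F := Finite.one_lt_card
        rw [h4] at h6
        rcases Nat.lt_or_ge 3 q with h7 | h7
        · exact h7
        exfalso
        have h8 : q = 3 := by
          obtain ⟨m, rfl⟩ := h5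
          omega
        subst h8
        exact hdj (Three.three_false hZ (bar τ) (D.map bar) (fun g => DFunLike.congr_fun hxx g) hodd hcomm
          (fun v hv ho => hnorm v ⟨hv, Or.inl ho⟩) J h hJx hd hJd j hj)
      refine ⟨h3, ?_, d, hd, hJd, ⟨j, hj, hdj⟩, J, le_rfl, hzJ, h, hJx, hJd⟩
      obtain ⟨F, i1, i2, h4, h5, ⟨e⟩⟩ := h
      exact SignalizersComponents.Components.isQuasisimple_of_mulEquiv e.symm
        (SignalizersComponents.SLQuasisimple.isQuasisimple_two (by rw [h4]; exact h3))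
    · exact ⟨h3, h4, d', hd', h5, h6, S, h7, h8, h9, h10, h11⟩
  obtain ⟨h3, hJq, d, ⟨δ, hδ, rfl⟩, hJd, ⟨j, hj, hdj⟩, S, hSJ, hzS, hSL, hSx, hSd⟩ := key
  refine ⟨hbig h3, δ, hδ, ?_⟩
  have hQ := Qt.of_isSL2 hSL hzS hz
  obtain ⟨z', hz', hQ'⟩ := hQ.lift hf
  have hgJ := OddHalf.NI3.K.LiftY.le_closure_odd hJq.1.commutator_eq_top
  have hLft : ∀ (φ : MulAut M) (B : Subgroup (M ⧸ center M)), B.map (bar φ).toMonoidHom = B →
      ∀ b ∈ Lft (QuotientGroup.mk' (center M)) B, φ b ∈ Lft (QuotientGroup.mk' (center M)) B := by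
    intro φ B hB b hb
    exact map_Lft (π := QuotientGroup.mk' (center M)) (π' := QuotientGroup.mk' (center M)) φ (bar φ)
      (fun x => rfl) (fun b hb => mem_of_map hB hb) b hb
  have hfix : ∀ φ : MulAut M, S.map (bar φ).toMonoidHom = S → φ z' = z' := by
    intro φ hφ
    refine hQ.injOn hf (hLft φ S hφ z' hQ'.mem) hQ'.mem ?_
    change bar φ (QuotientGroup.mk' (center M) z') = _
    rw [hz']
    rcases hQ.uniq (bar φ z) (mem_of_map hφ hzS) (by rw [← map_mul, hQ.sq, map_one]) with h4 | h4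
    · exact absurd ((map_eq_one_iff _ (bar φ).injective).mp h4) hQ.ne
    · exact h4
  have hcent : Lft (QuotientGroup.mk' (center M)) J ≤ centralizer ({z'} : Set M) := by
    intro y hy
    rw [mem_centralizer_singleton_iff]
    refine (hf.commute (g := z') (B := J) ?_ y hy).symm
    intro b hb
    rw [hz']
    exact (mem_centralizer_singleton_iff.mp (hJz hb)).symm
  refine ⟨z', _, Lft (QuotientGroup.mk' (center M)) J, hQ', Lft_mono hSJ,
    (OddHalf.NI3.K.LiftY.lft_quasisimple hf hJq hgJ).1, hcent, ?_, hfix τ hSx, hLft τ S hSx, hfix δ hSd,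
    hLft δ J hJd, ?_⟩
  · refine OddHalf.NI3.lft_subnormal (T := {z}) ?_ hcent hsub
    intro y hy
    rw [mem_centralizer_singleton_iff] at hy ⊢
    rw [← hz', ← map_mul, hy, map_mul]
  · obtain ⟨j', hj', rfl⟩ := hf.exists_mem hgJ hj
    refine ⟨j', hj', fun h => hdj ?_⟩
    change (QuotientGroup.mk (δ j') : M ⧸ center M) = QuotientGroup.mk' (center M) j'
    rw [h]
    rfl

end Cfsg.Agent.UGT.U2.RL
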