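import Cfsg.Agent.OddHalf.NI3.Lift
import Cfsg.Agent.OddHalf.NI3.K.LiftY
import Cfsg.Agent.OddHalf.NI.Niv
import Cfsg.Agent.UGT.U2.FOne.Defs
import Cfsg.Agent.Intrinsic.Lifting

/-!
# Subgroups with quaternion Sylow 2-subgroups, their central 2-extensions and odd extensions

`Qt S z` : `S` is generated by its elements of odd order, `z` is its only involution, the square of two elements of
`S` with commutator `z`.

* `Qt.of_sl` : `S ≃ SL₂(F)`.
* `Qt.lift` : `Lft f S → S` is an isomorphism for `CExt f`, `Qt (Lft f S) z'`.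
* `Qt.map` : images under homomorphisms with kernel of odd order.
* `even8_of_odd` : `Even8` lifts through surjections with kernel of odd order.
-/

set_option autoImplicit false

open Subgroup Cfsg Cfsg.Agent.GH.Cov.Lft
open Cfsg.Agent.OddHalf.NI (Even8)
open scoped commutatorElement

namespace Cfsg.Agent.UGT.U2.RL

/-- `S` is generated by its elements of odd order, has only one involution `z`, which lies in a quaternion group. -/
structure Qt {X : Type*} [Group X] (S : Subgroup X) (z : X) : Prop where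
  mem : z ∈ S
  sq : z * z = 1
  ne : z ≠ 1
  gen : S ≤ closure {a : X | a ∈ S ∧ Odd (orderOf a)}
  uniq : ∀ y ∈ S, y * y = 1 → y = 1 ∨ y = z
  even : ∃ u ∈ S, ∃ x ∈ S, u * u = z ∧ x * x = z ∧ ⁅u, x⁆ = z

section basic

variable {X Y : Type*} [Group X] [Group Y]

theorem Qt.order {S : Subgroup X} {z : X} (h : Qt S z) : orderOf z = 2 :=
  orderOf_eq_prime (by rw [pow_two, h.sq]) h.ne

theorem Qt.even8 {S : Subgroup X} {z : X} (h : Qt S z) : Even8 z := by
  obtain ⟨u, -, x, -, h1⟩ := h.even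
  exact ⟨h.order, u, x, h1⟩

/-- the involution is central -/
theorem Qt.comm {S : Subgroup X} {z : X} (h : Qt S z) {s : X} (hs : s ∈ S) : s * z = z * s := by
  rcases h.uniq (s * z * s⁻¹) (mul_mem (mul_mem hs h.mem) (inv_mem hs)) (by
    calc s * z * s⁻¹ * (s * z * s⁻¹) = s * (z * z) * s⁻¹ := by group
      _ = 1 := by rw [h.sq, mul_one, mul_inv_cancel]) with h1 | h1
  · exfalso
    apply h.ne
    calc z = s⁻¹ * (s * z * s⁻¹) * s := by group
      _ = 1 := by rw [h1]; group
  · exact mul_inv_eq_iff_eq_mul.mp h1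

theorem Qt.of_sl {F : Type*} [Field F] [Fintype F] (hF : Odd (Fintype.card F)) {S : Subgroup X}
    (e : ↥S ≃* Matrix.SpecialLinearGroup (Fin 2) F) {z : X} (hz : z ∈ S) (ho : orderOf z = 2) : Qt S z := by
  have h1 : e ⟨z, hz⟩ = -1 :=
    OddHalf.NI.eq_of_involutions hF e (x := ⟨z, hz⟩) (by rw [Subgroup.orderOf_mk]; exact ho)
  have h0 : z * z = 1 := by
    have := pow_orderOf_eq_one z
    rwa [ho, pow_two] at this
  have hne : z ≠ 1 := by
    rintro rfl
    rw [orderOf_one] at ho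
    exact absurd ho (by norm_num)
  refine ⟨hz, h0, hne, OddHalf.NI3.le_closure_of_sl hF e, ?_, ?_⟩
  · intro y hy hyy
    have h2 : e ⟨y, hy⟩ * e ⟨y, hy⟩ = 1 := by
      rw [← map_mul, ← map_one e]
      congr 1
      exact Subtype.ext hyy
    rcases Lib.PSL2Inv.sq_eq_one (TwoFusion.QuatCoverSL.two_ne_zero_of_odd hF) h2 with h | h
    · left
      exact congrArg Subtype.val (e.injective (h.trans (map_one e).symm))
    · right
      exact congrArg Subtype.val (e.injective (h.trans h1.symm))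
  · obtain ⟨-, u, x, h2, h3, h4⟩ := OddHalf.NI.even8_neg_one hF
    have h5 : ((e.symm (-1) : ↥S) : X) = z := by
      rw [← h1, e.symm_apply_apply]
    refine ⟨(e.symm u : ↥S), (e.symm u).2, (e.symm x : ↥S), (e.symm x).2, ?_, ?_, ?_⟩
    · rw [← Subgroup.coe_mul, ← map_mul, h2, h5]
    · rw [← Subgroup.coe_mul, ← map_mul, h3, h5]
    · have h6 : ⁅((e.symm u : ↥S) : X), ((e.symm x : ↥S) : X)⁆ = ((⁅e.symm u, e.symm x⁆ : ↥S) : X) := rfl
      rw [h6, ← map_commutatorElement, h4, h5]

theorem Qt.of_isSL2 {q : ℕ} {S : Subgroup X} (h : FOne.IsSL2 q S) {z : X} (hz : z ∈ S) (ho : orderOf z = 2) :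
    Qt S z := by
  obtain ⟨F, i1, i2, h1, h2, ⟨e⟩⟩ := h
  have := Fintype.ofFinite F
  rw [Nat.card_eq_fintype_card] at h1
  exact Qt.of_sl (F := F) (by rw [h1]; exact h2) e hz ho

end basic

/-! ### central 2-extensions -/

section lift

variable {E Y : Type*} [Group E] [Group Y] {f : E →* Y}

theorem Qt.inj [Finite E] (hf : CExt f) {S : Subgroup Y} {z : Y} (h : Qt S z) {c : E} (hc : c ∈ Lft f S)
    (hfc : f c = 1) : c = 1 := by
  refine GH.Cov.QuatLift.injOn (K := Lft f S) (f := f) (t := z) (Lft_gen S) ?_ ?_ ?_ hc hfc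
  · intro c _ hc y _
    exact hf.cen c hc y
  · intro c _ hc
    exact hf.two c hc
  · intro y hy hyy
    exact h.uniq _ (map_mem hy) hyy

theorem Qt.injOn [Finite E] (hf : CExt f) {S : Subgroup Y} {z : Y} (h : Qt S z) {c c' : E} (hc : c ∈ Lft f S)
    (hc' : c' ∈ Lft f S) (hfc : f c = f c') : c = c' := by
  have h1 := h.inj hf (mul_mem hc (inv_mem hc')) (by rw [map_mul, map_inv, hfc, mul_inv_cancel])
  exact mul_inv_eq_one.mp h1

/-- **The lift.** -/
theorem Qt.lift [Finite E] (hf : CExt f) {S : Subgroup Y} {z : Y} (h : Qt S z) :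
    ∃ z', f z' = z ∧ Qt (Lft f S) z' := by
  obtain ⟨z', hz', hfz⟩ := hf.exists_mem h.gen h.mem
  refine ⟨z', hfz, hz', ?_, ?_, Lft_gen S, ?_, ?_⟩
  · exact h.inj hf (mul_mem hz' hz') (by rw [map_mul, hfz, h.sq])
  · rintro rfl
    rw [map_one] at hfz
    exact h.ne hfz.symm
  · intro y hy hyy
    rcases h.uniq (f y) (map_mem hy) (by rw [← map_mul, hyy, map_one]) with h1 | h1
    · exact Or.inl (h.inj hf hy h1)
    · exact Or.inr (h.injOn hf hy hz' (h1.trans hfz.symm))
  · obtain ⟨u, hu, x, hx, h1, h2, h3⟩ := h.even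
    obtain ⟨u', hu', rfl⟩ := hf.exists_mem h.gen hu
    obtain ⟨x', hx', rfl⟩ := hf.exists_mem h.gen hx
    refine ⟨u', hu', x', hx', ?_, ?_, ?_⟩
    · exact h.injOn hf (mul_mem hu' hu') hz' (by rw [map_mul, h1, hfz])
    · exact h.injOn hf (mul_mem hx' hx') hz' (by rw [map_mul, h2, hfz])
    · refine h.injOn hf ?_ hz' (by rw [map_commutatorElement, h3, hfz])
      rw [commutatorElement_def]
      exact mul_mem (mul_mem (mul_mem hu' hx') (inv_mem hu')) (inv_mem hx')

end lift

/-! ### kernels of odd order -/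

section odd

variable {A B : Type*} [Group A] [Group B]

theorem eq_one_of_ker [Finite A] {f : A →* B} (hodd : Odd (Nat.card f.ker)) {x : A} (hx : f x = 1) {n : ℕ}
    (hn : x ^ 2 ^ n = 1) : x = 1 :=
  Intrinsic.Lifting.eq_one_of_odd hodd (MonoidHom.mem_ker.2 hx) hn

theorem Qt.map [Finite A] {f : A →* B} (hodd : Odd (Nat.card f.ker)) {S : Subgroup A} {z : A} (h : Qt S z) :
    Qt (S.map f) (f z) := by
  refine ⟨mem_map_of_mem _ h.mem, by rw [← map_mul, h.sq, map_one], ?_, ?_, ?_, ?_⟩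
  · intro h1
    exact h.ne (eq_one_of_ker hodd h1 (n := 1) (by rw [pow_one, pow_two, h.sq]))
  · rw [Subgroup.map_le_iff_le_comap]
    refine h.gen.trans ?_
    rw [closure_le]
    rintro a ⟨ha, ho⟩
    exact subset_closure ⟨mem_map_of_mem _ ha, Odd.of_dvd_nat ho (orderOf_map_dvd f a)⟩
  · rintro _ ⟨a, ha, rfl⟩ haa
    have h1 : a ^ 2 ^ 1 ∈ f.ker := by
      rw [MonoidHom.mem_ker, map_pow, pow_one, pow_two, haa]
    obtain ⟨k, hk1, hk2⟩ := Intrinsic.Lifting.exists_two_part hodd h1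
    have h2 : f (a ^ k) = f a := by
      rw [MonoidHom.mem_ker, map_mul, map_inv, inv_mul_eq_one] at hk2
      exact hk2.symm
    rcases h.uniq (a ^ k) (pow_mem ha k) (by rw [← pow_two]; simpa using hk1) with h3 | h3
    · left
      rw [← h2, h3, map_one]
    · right
      rw [← h2, h3]
  · obtain ⟨u, hu, x, hx, h1, h2, h3⟩ := h.even
    exact ⟨f u, mem_map_of_mem _ hu, f x, mem_map_of_mem _ hx, by rw [← map_mul, h1], by rw [← map_mul, h2],
      by rw [← map_commutatorElement, h3]⟩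

/-- A 2-subgroup lifts through a surjection. -/
theorem exists_two_lift [Finite A] {f : A →* B} (hf : Function.Surjective f) (V : Subgroup B)
    (hV : IsPGroup 2 ↥V) : ∃ P : Subgroup A, IsPGroup 2 ↥P ∧ ∀ v ∈ V, ∃ p ∈ P, f p = v := by
  have h2 : Fact (Nat.Prime 2) := ⟨Nat.prime_two⟩
  have hfB : Finite B := Finite.of_surjective f hf
  obtain ⟨M, hM⟩ : ∃ M, M = V.comap f := ⟨_, rfl⟩
  obtain ⟨P0⟩ : Nonempty (Sylow 2 ↥M) := inferInstance
  let g : ↥M →* ↥V := (f.comp M.subtype).codRestrict V (by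
    rintro ⟨x, hx⟩
    have h3 : x ∈ V.comap f := by rw [← hM]; exact hx
    exact h3)
  have hg : Function.Surjective g := by
    rintro ⟨v, hv⟩
    obtain ⟨x, rfl⟩ := hf v
    exact ⟨⟨x, by rw [hM, mem_comap]; exact hv⟩, rfl⟩
  have h3 : (P0.mapSurjective hg : Subgroup ↥V) = ⊤ := by
    have h4 : IsPGroup 2 ↥(⊤ : Subgroup ↥V) := hV.to_subgroup ⊤
    exact ((P0.mapSurjective hg).is_maximal' h4 le_top).symm
  refine ⟨(P0 : Subgroup ↥M).map M.subtype, P0.isPGroup'.map _, fun v hv => ?_⟩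
  have h4 : (⟨v, hv⟩ : ↥V) ∈ (P0.mapSurjective hg : Subgroup ↥V) := by rw [h3]; exact mem_top _
  rw [Sylow.coe_mapSurjective] at h4
  obtain ⟨p, hp, hpv⟩ := h4
  exact ⟨(p : A), ⟨p, hp, rfl⟩, congrArg Subtype.val hpv⟩

/-- **`Even8` lifts through surjections with kernel of odd order.** -/
theorem even8_of_odd [Finite A] {f : A →* B} (hf : Function.Surjective f) (hodd : Odd (Nat.card f.ker)) {z : A}
    (hz : z * z = 1) (hc : ∀ a : A, a * z = z * a) (h : Even8 (f z)) : Even8 z := by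
  obtain ⟨h1, u, x, hu, hx, hux⟩ := h
  have hzz : f z * f z = 1 := by rw [← map_mul, hz, map_one]
  have hne : z ≠ 1 := by
    rintro rfl
    rw [map_one, orderOf_one] at h1
    exact absurd h1 (by norm_num)
  -- the quaternion group is a 2-group
  have h4 : ∀ w : B, w * w = f z → IsPGroup 2 ↥(zpowers w) := by
    rintro w hw ⟨_, n, rfl⟩
    refine ⟨2, Subtype.ext ?_⟩
    change ((w ^ n) ^ 2 ^ 2 : B) = 1
    rw [← zpow_natCast, ← zpow_mul, mul_comm, zpow_mul]
    have h5 : w ^ ((2 ^ 2 : ℕ) : ℤ) = 1 := by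
      rw [zpow_natCast, show (2 : ℕ) ^ 2 = 2 * 2 by norm_num, pow_mul, pow_two, pow_two, hw, hzz]
    rw [h5, one_zpow]
  have hxn : x ∈ normalizer (zpowers u : Set B) := by
    have h5 : x * u * x⁻¹ = u ^ 3 := by
      have h6 : f z * x = x * f z := by rw [← hx, mul_assoc]
      have h7 : u * x = f z * (x * u) := by
        rw [← hux, commutatorElement_def]; group
      have h8 : x * u = f z * (u * x) := by rw [h7, ← mul_assoc, hzz, one_mul]
      rw [h8, show u ^ 3 = u * u * u by rw [pow_succ, pow_two], hu]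
      group
    have h6 : (zpowers u).map (MulAut.conj x).toMonoidHom ≤ zpowers u := by
      rw [MonoidHom.map_zpowers, zpowers_le]
      change x * u * x⁻¹ ∈ zpowers u
      rw [h5]
      exact pow_mem (mem_zpowers u) 3
    have hfu : Finite ↥(zpowers u) := by
      have h7 : Finite B := Finite.of_surjective f hf
      infer_instance
    have h7 : (zpowers u).map (MulAut.conj x).toMonoidHom = zpowers u := by
      apply Subgroup.eq_of_le_of_card_ge h6
      rw [card_map_of_injective (MulAut.conj x).injective]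
    exact SignalizersComponents.IntrinsicBasic.mem_normalizer_iff_cj.mpr h7
  have hV : IsPGroup 2 ↥(closure ({u, x} : Set B)) := by
    have h5 : IsPGroup 2 ↥(zpowers x ⊔ zpowers u : Subgroup B) :=
      IsPGroup.to_sup_of_normal_right' (h4 x hx) (h4 u hu) (by rw [zpowers_le]; exact hxn)
    refine h5.to_le ?_
    rw [closure_le]
    rintro w (rfl | rfl)
    · exact mem_sup_right (mem_zpowers _)
    · exact mem_sup_left (mem_zpowers _)
  obtain ⟨P, hP, hPV⟩ := exists_two_lift hf _ hV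
  obtain ⟨u', hu', rfl⟩ := hPV u (subset_closure (by simp))
  obtain ⟨x', hx', rfl⟩ := hPV x (subset_closure (by simp))
  have key : ∀ y ∈ P, f y = f z → y = z := by
    intro y hy hyz
    obtain ⟨n, hn⟩ := hP ⟨y, hy⟩
    have hn' : y ^ 2 ^ n = 1 := congrArg Subtype.val hn
    have h3 : (y * z) ^ 2 ^ (n + 1) = 1 := by
      have h4 : Commute y z := hc y
      rw [h4.mul_pow, pow_succ, pow_mul, hn', one_pow, one_mul, mul_comm (2 ^ n) 2, pow_mul, pow_two, hz, one_pow]
    have h4 := eq_one_of_ker hodd (x := y * z) (by rw [map_mul, hyz, hzz]) h3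
    calc y = y * z * z := by rw [mul_assoc, hz, mul_one]
      _ = z := by rw [h4, one_mul]
  refine ⟨orderOf_eq_prime (by rw [pow_two, hz]) hne, u', x', ?_, ?_, ?_⟩
  · exact key _ (mul_mem hu' hu') (by rw [map_mul, hu])
  · exact key _ (mul_mem hx' hx') (by rw [map_mul, hx])
  · refine key _ ?_ (by rw [map_commutatorElement, hux])
    rw [commutatorElement_def]
    exact mul_mem (mul_mem (mul_mem hu' hx') (inv_mem hu')) (inv_mem hx')

end odd

end Cfsg.Agent.UGT.U2.RL
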